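/-
The group `Z₂ × S₄`, the centraliser of a transposition in `S₆`: finite facts checked in the kernel.
-/
import Mathlib
import Cfsg.Agent.EqLemmas

set_option autoImplicit false

namespace Cfsg.Agent.SymSix

/-- `Z₂ × S₄`. -/
abbrev M0 : Type := Multiplicative (ZMod 2) × Equiv.Perm (Fin 4)

/-- The central involution. -/
def τ : M0 := (Multiplicative.ofAdd 1, 1)

/-- The transposition `(i j)`. -/
def sw (i j : Fin 4) : M0 := (1, Equiv.swap i j)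

/-- The commutator involution of the chosen Sylow subgroup. -/
def dd : M0 := sw 0 2 * sw 1 3

/-- The six transpositions. -/
def U0 : Finset M0 := {sw 0 1, sw 0 2, sw 0 3, sw 1 2, sw 1 3, sw 2 3}

/-- The transpositions times the central involution. -/
def U1 : Finset M0 := {τ * sw 0 1, τ * sw 0 2, τ * sw 0 3, τ * sw 1 2, τ * sw 1 3, τ * sw 2 3}

/-- The double transpositions. -/
def D0 : Finset M0 := {sw 0 1 * sw 2 3, sw 0 2 * sw 1 3, sw 0 3 * sw 1 2}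

/-- The double transpositions times the central involution. -/
def D1 : Finset M0 := {τ * (sw 0 1 * sw 2 3), τ * (sw 0 2 * sw 1 3), τ * (sw 0 3 * sw 1 2)}

/-- The parity bit. -/
def bit (σ : Equiv.Perm (Fin 4)) : Multiplicative (ZMod 2) :=
  if Equiv.Perm.sign σ = 1 then 1 else Multiplicative.ofAdd 1

/-- The automorphism `(a, σ) ↦ (a + sgn σ, σ)`. -/
def flip0 (x : M0) : M0 := (x.1 * bit x.2, x.2)

/-- The character `(a, σ) ↦ a + sgn σ`. -/
def chi (x : M0) : Multiplicative (ZMod 2) := x.1 * bit x.2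

set_option maxRecDepth 100000

theorem bit_mul : ∀ σ π : Equiv.Perm (Fin 4), bit (σ * π) = bit σ * bit π := by decide +kernel

theorem flip0_flip0 : ∀ x : M0, flip0 (flip0 x) = x := by decide +kernel

/-- `flip0` as an automorphism. -/
def flipEquiv : M0 ≃* M0 where
  toFun := flip0
  invFun := flip0
  left_inv := flip0_flip0
  right_inv := flip0_flip0
  map_mul' x y := by
    simp only [flip0, Prod.fst_mul, Prod.snd_mul, bit_mul, Prod.mk_mul_mk]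
    rw [mul_mul_mul_comm]

/-- The character as a homomorphism. -/
def chiHom : M0 →* Multiplicative (ZMod 2) where
  toFun := chi
  map_one' := by decide +kernel
  map_mul' x y := by
    simp only [chi, Prod.fst_mul, Prod.snd_mul, bit_mul]
    rw [mul_mul_mul_comm]

theorem flip_facts : flip0 τ = τ ∧ flip0 (sw 0 2) = τ * sw 0 2 := by decide +kernel

theorem tau_central : ∀ x : M0, x * τ = τ * x := by decide +kernel

theorem center_eq : ∀ x : M0, (∀ y : M0, x * y = y * x) → x = 1 ∨ x = τ := by decide +kernel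

theorem involutions : ∀ x : M0, x * x = 1 →
    x = 1 ∨ x = τ ∨ x ∈ U0 ∨ x ∈ U1 ∨ x ∈ D0 ∨ x ∈ D1 := by decide +kernel

theorem conj_U0 : ∀ x ∈ U0, ∃ g : M0, g * sw 0 2 * g⁻¹ = x := by decide +kernel

theorem conj_U1 : ∀ x ∈ U1, ∃ g : M0, g * (τ * sw 0 2) * g⁻¹ = x := by decide +kernel

theorem conj_D0 : ∀ x ∈ D0, ∃ g : M0, g * dd * g⁻¹ = x := by decide +kernel

theorem conj_D1 : ∀ x ∈ D1, ∃ g : M0, g * (τ * dd) * g⁻¹ = x := by decide +kernel

theorem card_cent_dd : Fintype.card {x : M0 // x * dd = dd * x} = 16 := by decide +kernel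

theorem card_cent_dd_sw : Fintype.card {x : M0 // x * dd = dd * x ∧ x * sw 0 2 = sw 0 2 * x} = 8 := by
  decide +kernel

theorem cent_eight : ∀ x : M0, x * x = 1 → Fintype.card {y : M0 // y * x = x * y} = 8 →
    x ∈ U0 ∨ x ∈ U1 := by decide +kernel

theorem sylow_commutators : ∀ x y : M0, x * dd = dd * x → y * dd = dd * y →
    x * y * x⁻¹ * y⁻¹ = 1 ∨ x * y * x⁻¹ * y⁻¹ = dd := by decide +kernel

theorem special : sw 0 2 * dd = dd * sw 0 2 ∧ dd * dd = 1 ∧ dd ≠ 1 ∧ τ * τ = 1 ∧ τ ≠ 1 ∧ τ * dd ≠ 1 ∧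
    τ * dd ≠ τ ∧ τ * dd ≠ dd ∧ sw 0 2 * sw 0 2 = 1 ∧ sw 0 2 ≠ 1 ∧
    (let x := sw 0 2; let y := sw 0 1 * sw 2 3;
      y * dd = dd * y ∧ x * y * x⁻¹ * y⁻¹ = dd) := by decide +kernel

theorem chi_facts : chi τ ≠ 1 ∧ chi (sw 0 2) ≠ 1 ∧ chi dd = 1 ∧
    Fintype.card {x : M0 // x * dd = dd * x ∧ chi x = 1} = 8 ∧
    (∀ x : M0, x * dd = dd * x → chi x = 1 → x * x = 1 → x = 1 ∨ x ∈ D0 ∨ x ∈ U1) := by decide +kernel

theorem q_generators :
    (let v := τ * sw 0 2; let w := sw 0 1 * sw 2 3;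
      v * v = 1 ∧ v ≠ 1 ∧ w * w = 1 ∧ w ≠ 1 ∧ v ≠ w ∧ v ∈ U1 ∧ w ∈ D0 ∧ v * dd = dd * v ∧ w * dd = dd * w ∧
        chi v = 1 ∧ chi w = 1 ∧ (v * w) ^ 4 = 1 ∧ (v * w) ^ 2 = dd) := by decide +kernel

theorem card_U0 : U0.card = 6 := by decide +kernel

theorem U0_inv : ∀ a ∈ U0, a * a = 1 ∧ a ≠ 1 ∧ a ≠ τ := by decide +kernel

theorem U0_braid : ∀ a ∈ U0, ∀ b ∈ U0, a * b ≠ b * a → a * b * a = b * a * b := by decide +kernel

theorem U0_opp : ∀ a ∈ U0, (U0.filter fun b => a * b = b * a).card = 2 := by decide +kernel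

theorem U0_disjoint : ∀ a ∈ U0, a ∉ U1 ∧ a ∉ D0 ∧ a ∉ D1 := by decide +kernel

theorem sw_noncomm : sw 0 1 * sw 1 2 ≠ sw 1 2 * sw 0 1 := by decide +kernel

theorem adjacent_conj : ∀ a ∈ U0, ∀ b ∈ U0, a * b ≠ b * a →
    ∃ g : M0, g * sw 0 1 * g⁻¹ = a ∧ g * sw 1 2 * g⁻¹ = b := by decide +kernel

theorem chain_facts : sw 0 1 ∈ U0 ∧ sw 1 2 ∈ U0 ∧ sw 2 3 ∈ U0 ∧ sw 0 1 * sw 2 3 = sw 2 3 * sw 0 1 ∧
    sw 0 1 * sw 1 2 * sw 0 1 = sw 1 2 * sw 0 1 * sw 1 2 ∧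
    sw 1 2 * sw 2 3 * sw 1 2 = sw 2 3 * sw 1 2 * sw 2 3 ∧ sw 0 1 ≠ sw 2 3 := by decide +kernel

end Cfsg.Agent.SymSix
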