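/-
Groups with a Sylow-central involution centralised by exactly `Z₂ × S₄`, and `C(S') = S`.

* `Hyp` : an injection `f` of `Z₂ × S₄` onto the centraliser; `exists_hyp`
* `not_conj_td`, `eq_tau_or_U0`, `fused` : the fusion of involutions
* `isolated_case` : without fusion the centraliser is everything
-/
import Cfsg.Agent.Lib.SymSix.Model
import Cfsg.Agent.Lib.ZStar.Glauberman
import Cfsg.Agent.Lib.ZStarPrimePower.Proved
import Cfsg.Agent.Lib.BSW.Basic
import Cfsg.Agent.Lib.Cores.Basic
import Cfsg.Agent.EqLemmas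

set_option autoImplicit false
set_option linter.style.haveILetI false

namespace Cfsg.Agent.SymSix

universe u

variable {G : Type u} [Group G] [Finite G]

/-- The data. -/
structure Hyp (G : Type u) [Group G] [Finite G] where
  f : M0 →* G
  inj : Function.Injective f
  cent : ∀ g : G, g * f τ = f τ * g ↔ g ∈ f.range
  sylow : ∀ P : Sylow 2 G, Subgroup.centralizer
    ((⁅(P : Subgroup G), (P : Subgroup G)⁆ : Subgroup G) : Set G) = (P : Subgroup G)
  card_sylow : ∀ P : Sylow 2 G, Nat.card (P : Subgroup G) = 16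

theorem exists_hyp (t : G) (ht : orderOf t = 2) (T : Sylow 2 G)
    (htc : ∀ s ∈ (T : Subgroup G), s * t = t * s)
    (e : ↥(Subgroup.centralizer ({t} : Set G)) ≃* M0)
    (h2 : ∀ S : Sylow 2 G, Subgroup.centralizer ((⁅(S : Subgroup G), (S : Subgroup G)⁆ : Subgroup G) : Set G) = (S : Subgroup G)) :
    ∃ h : Hyp G, h.f τ = t := by
  classical
  set C := Subgroup.centralizer ({t} : Set G) with hC
  have htC : t ∈ C := Subgroup.mem_centralizer_singleton_iff.2 rfl
  have ht1 : t ≠ 1 := fun h => by simp [h] at ht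
  have he : e ⟨t, htC⟩ = τ := by
    refine (center_eq _ fun y => ?_).resolve_left fun h => ht1 ?_
    · obtain ⟨c, rfl⟩ := e.surjective y
      rw [← map_mul, ← map_mul]
      exact congrArg e (Subtype.ext (Subgroup.mem_centralizer_singleton_iff.1 c.2).symm)
    · exact congrArg Subtype.val ((map_eq_one_iff e e.injective).1 h)
  let f : M0 →* G := C.subtype.comp e.symm.toMonoidHom
  have hf : f τ = t := by
    change ((e.symm τ : C) : G) = t
    rw [← he, MulEquiv.symm_apply_apply]
  have hcent : ∀ g : G, g * f τ = f τ * g ↔ g ∈ f.range := by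
    intro g
    rw [hf]
    constructor
    · intro hg
      exact ⟨e ⟨g, Subgroup.mem_centralizer_singleton_iff.2 hg⟩, by
        change ((e.symm (e ⟨g, Subgroup.mem_centralizer_singleton_iff.2 hg⟩) : C) : G) = g
        rw [MulEquiv.symm_apply_apply]⟩
    · rintro ⟨x, rfl⟩
      exact Subgroup.mem_centralizer_singleton_iff.1 (e.symm x).2
  refine ⟨⟨f, fun x y h => e.symm.injective (Subtype.ext h), hcent, h2, fun P => ?_⟩, hf⟩
  haveI := Fact.mk Nat.prime_two
  have hTC : (T : Subgroup G) ≤ C := fun s hs => Subgroup.mem_centralizer_singleton_iff.2 (htc s hs)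
  have hC48 : Nat.card C = 48 := by
    rw [Nat.card_congr e.toEquiv, Nat.card_prod]
    simp [Nat.card_eq_fintype_card, Fintype.card_perm, Nat.factorial]
  obtain ⟨k, hk⟩ := T.isPGroup'.exists_card_eq
  have hdvd : 2 ^ k ∣ 48 := by rw [← hk, ← hC48]; exact Subgroup.card_dvd_of_le hTC
  have h16 : 16 ∣ Nat.card (T : Subgroup G) := by
    have h48 : 2 ^ 4 ∣ Nat.card G :=
      (show 2 ^ 4 ∣ Nat.card C from hC48 ▸ (by norm_num)).trans (Subgroup.card_subgroup_dvd_card C)
    have := T.pow_dvd_card_of_pow_dvd_card h48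
    simpa using this
  rw [Sylow.card_eq_multiplicity P, ← Sylow.card_eq_multiplicity T, hk]
  rw [hk] at h16
  have hle : k ≤ 4 := by
    by_contra h
    have h32 : (2 : ℕ) ^ 5 ∣ 48 := (pow_dvd_pow 2 (by omega : 5 ≤ k)).trans hdvd
    norm_num at h32
  interval_cases k <;> first | rfl | norm_num at h16

namespace Hyp

variable (h : Hyp G)

/-- The central involution. -/
def t : G := h.f τ

theorem t_mul : h.t * h.t = 1 := by rw [t, ← map_mul, special.2.2.2.1, map_one]

theorem t_ne_one : h.t ≠ 1 := fun e => special.2.2.2.2.1 (h.inj (e.trans (map_one h.f).symm))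

theorem commute_t (x : M0) : h.f x * h.t = h.t * h.f x := by
  rw [t, ← map_mul, ← map_mul, tau_central]

theorem orderOf_t : orderOf h.t = 2 := orderOf_eq_prime (by rw [pow_two]; exact h.t_mul) h.t_ne_one

/-- The chosen Sylow subgroup. -/
def P0 : Subgroup G := (Subgroup.centralizer ({dd} : Set M0)).map h.f

theorem card_P0 : Nat.card h.P0 = 16 := by
  rw [P0, ← Nat.card_congr (Subgroup.equivMapOfInjective _ _ h.inj).toEquiv, ← card_cent_dd,
    ← Nat.card_eq_fintype_card]
  exact Nat.card_congr (Equiv.subtypeEquivRight fun x => Subgroup.mem_centralizer_singleton_iff)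

theorem exists_sylow : ∃ P : Sylow 2 G, (P : Subgroup G) = h.P0 := by
  haveI := Fact.mk Nat.prime_two
  have hp : IsPGroup 2 h.P0 := IsPGroup.of_card (n := 4) (by rw [h.card_P0]; norm_num)
  obtain ⟨P, hP⟩ := hp.exists_le_sylow
  exact ⟨P, (Subgroup.eq_of_le_of_card_ge hP (by rw [h.card_sylow P, h.card_P0])).symm⟩

theorem cent_c {g : G} : g * h.f dd = h.f dd * g ↔ g ∈ h.P0 := by
  obtain ⟨P, hP⟩ := h.exists_sylow
  constructor
  · intro hg
    rw [← hP, ← h.sylow P]
    rw [Subgroup.mem_centralizer_iff]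
    intro w hw
    have hle : ⁅(P : Subgroup G), (P : Subgroup G)⁆ ≤ Subgroup.zpowers (h.f dd) := by
      rw [Subgroup.commutator_le, hP]
      rintro _ ⟨x, hx, rfl⟩ _ ⟨y, hy, rfl⟩
      rw [commutatorElement_def, ← map_inv, ← map_inv, ← map_mul, ← map_mul, ← map_mul]
      rcases sylow_commutators x y (Subgroup.mem_centralizer_singleton_iff.1 hx)
        (Subgroup.mem_centralizer_singleton_iff.1 hy) with e | e <;> rw [e]
      · rw [map_one]; exact one_mem _
      · exact Subgroup.mem_zpowers _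
    obtain ⟨i, rfl⟩ := Subgroup.mem_zpowers_iff.1 (hle hw)
    exact (Commute.zpow_right hg i).eq.symm
  · rintro ⟨x, hx, rfl⟩
    rw [← map_mul, ← map_mul, Subgroup.mem_centralizer_singleton_iff.1 hx]

theorem card_cent_c : Nat.card (Subgroup.centralizer ({h.f dd} : Set G)) = 16 := by
  rw [← h.card_P0]
  exact Nat.card_congr (Equiv.subtypeEquivRight fun x =>
    Subgroup.mem_centralizer_singleton_iff.trans h.cent_c)

theorem card_cent_t : Nat.card (Subgroup.centralizer ({h.t} : Set G)) = 48 := by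
  have h1 : Nat.card h.f.range = 48 := by
    rw [← Nat.card_congr (MonoidHom.ofInjective h.inj).toEquiv, Nat.card_prod]
    simp [Nat.card_eq_fintype_card, Fintype.card_perm, Nat.factorial]
  rw [← h1]
  exact Nat.card_congr (Equiv.subtypeEquivRight fun x =>
    Subgroup.mem_centralizer_singleton_iff.trans (h.cent x))

omit [Finite G] in
theorem card_cent_conj (g x : G) : Nat.card (Subgroup.centralizer ({g * x * g⁻¹} : Set G)) =
    Nat.card (Subgroup.centralizer ({x} : Set G)) := by
  refine (Nat.card_congr ((MulAut.conj g).toEquiv.subtypeEquiv fun y => ?_)).symm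
  change _ ↔ g * y * g⁻¹ ∈ Subgroup.centralizer ({g * x * g⁻¹} : Set G)
  rw [Subgroup.mem_centralizer_singleton_iff, Subgroup.mem_centralizer_singleton_iff,
    show g * y * g⁻¹ * (g * x * g⁻¹) = g * (y * x) * g⁻¹ by group,
    show g * x * g⁻¹ * (g * y * g⁻¹) = g * (x * y) * g⁻¹ by group, mul_left_inj, mul_right_inj]

theorem not_conj_c : ¬ IsConj h.t (h.f dd) := by
  intro hc
  obtain ⟨g, hg⟩ := isConj_iff.1 hc
  have := card_cent_conj g h.t
  rw [hg, h.card_cent_c, h.card_cent_t] at this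
  omega

theorem not_conj_td : ¬ IsConj h.t (h.f (τ * dd)) := by
  intro hc
  obtain ⟨g, hg⟩ := isConj_iff.1 hc
  obtain ⟨P, hP⟩ := h.exists_sylow
  haveI := Fact.mk Nat.prime_two
  have ht : h.t ∈ Subgroup.centralizer ((P : Subgroup G) : Set G) := by
    rw [Subgroup.mem_centralizer_iff, hP]
    rintro _ ⟨x, -, rfl⟩
    exact h.commute_t x
  have htd : h.f (τ * dd) ∈ Subgroup.centralizer ((P : Subgroup G) : Set G) := by
    rw [Subgroup.mem_centralizer_iff, hP]
    rintro _ ⟨x, hx, rfl⟩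
    rw [← map_mul, ← map_mul, ← mul_assoc, tau_central x, mul_assoc,
      Subgroup.mem_centralizer_singleton_iff.1 hx, mul_assoc]
  obtain ⟨n, hn, hnx⟩ := Sylow.conj_eq_normalizer_conj_of_mem_centralizer P h.t g⁻¹ ht (by
    rw [inv_inv, hg]; exact htd)
  rw [inv_inv, hg] at hnx
  have hdd : h.f dd ∈ ⁅(P : Subgroup G), (P : Subgroup G)⁆ := by
    obtain ⟨h1, -, -, -, -, -, -, -, -, -, h2, h3⟩ := special
    rw [← h3]
    simp only [map_mul, map_inv]
    rw [← commutatorElement_def]
    refine Subgroup.commutator_mem_commutator ?_ ?_ <;> rw [hP]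
    · exact ⟨_, Subgroup.mem_centralizer_singleton_iff.2 h1, rfl⟩
    · exact ⟨_, Subgroup.mem_centralizer_singleton_iff.2 h2, map_mul h.f _ _⟩
  have hnP : n ∈ h.P0 := by
    rw [← h.cent_c]
    -- the normaliser fixes the commutator involution
    have hle : ⁅(P : Subgroup G), (P : Subgroup G)⁆ ≤ Subgroup.zpowers (h.f dd) := by
      rw [Subgroup.commutator_le, hP]
      rintro _ ⟨x, hx, rfl⟩ _ ⟨y, hy, rfl⟩
      rw [commutatorElement_def, ← map_inv, ← map_inv, ← map_mul, ← map_mul, ← map_mul]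
      rcases sylow_commutators x y (Subgroup.mem_centralizer_singleton_iff.1 hx)
        (Subgroup.mem_centralizer_singleton_iff.1 hy) with e | e <;> rw [e]
      · rw [map_one]; exact one_mem _
      · exact Subgroup.mem_zpowers _
    have hmem : n * h.f dd * n⁻¹ ∈ ⁅(P : Subgroup G), (P : Subgroup G)⁆ := by
      have h1 := Subgroup.mem_map_of_mem (MulAut.conj n).toMonoidHom hdd
      have hfix : (P : Subgroup G).map (MulAut.conj n).toMonoidHom = (P : Subgroup G) := by
        ext y
        constructor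
        · rintro ⟨x, hx, rfl⟩; exact (Subgroup.mem_normalizer_iff.1 hn x).1 hx
        · intro hy
          refine ⟨n⁻¹ * y * n, (Subgroup.mem_normalizer_iff.1 hn _).2 ?_, ?_⟩
          · rw [show n * (n⁻¹ * y * n) * n⁻¹ = y by group]; exact hy
          · change n * (n⁻¹ * y * n) * n⁻¹ = y
            group
      rw [Subgroup.map_commutator, hfix] at h1
      exact h1
    obtain ⟨i, hi⟩ := Subgroup.mem_zpowers_iff.1 (hle hmem)
    have hc2 : h.f dd * h.f dd = 1 := by rw [← map_mul, special.2.1, map_one]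
    rcases Int.even_or_odd i with ⟨j, rfl⟩ | ⟨j, rfl⟩
    · exfalso
      have h0 : n * h.f dd * n⁻¹ = 1 := by rw [← hi, ← two_mul, zpow_mul, zpow_two, hc2, one_zpow]
      exact special.2.2.1 (h.inj ((conj_eq_one_iff.1 h0).trans (map_one h.f).symm))
    · rw [zpow_add, zpow_mul, zpow_two, hc2, one_zpow, one_mul, zpow_one] at hi
      calc n * h.f dd = n * h.f dd * n⁻¹ * n := by group
        _ = h.f dd * n := by rw [← hi]
  obtain ⟨x, -, rfl⟩ := hnP
  rw [← map_inv, h.commute_t, mul_assoc, ← map_mul, inv_mul_cancel, map_one, mul_one] at hnx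
  have h2 : h.f (τ * dd) = h.f τ := by
    rw [hnx]
    simp [t, mul_assoc]
  exact special.2.2.2.2.2.2.1 (h.inj h2)

include h in
theorem core_trivial : Cfsg.pPrimeCore 2 G = ⊥ := by
  set O := Cfsg.pPrimeCore 2 G with hO
  haveI hOn : O.Normal := Cores.pPrimeCore_normal 2 G
  have hodd : Odd (Nat.card O) := Nat.coprime_two_right.1 (Cores.coprime_card_pPrimeCore (G := G) 2)
  have hinv : ∀ x ∈ D0, ∀ w ∈ O, h.f x * w * (h.f x)⁻¹ = w⁻¹ ∧ (w * h.f x = h.f x * w → w = 1) := by
    intro x hx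
    obtain ⟨g, rfl⟩ := conj_D0 x hx
    have hfree : ∀ w ∈ O, h.f (g * dd * g⁻¹) * w = w * h.f (g * dd * g⁻¹) → w = 1 := by
      intro w hw hc
      have hw' : (h.f g)⁻¹ * w * h.f g ∈ h.P0 := by
        rw [← h.cent_c]
        rw [map_mul, map_mul, map_inv] at hc
        calc (h.f g)⁻¹ * w * h.f g * h.f dd = (h.f g)⁻¹ * (w * (h.f g * h.f dd * (h.f g)⁻¹)) * h.f g := by group
          _ = _ := by rw [← hc]; group
      have hwO : (h.f g)⁻¹ * w * h.f g ∈ O := by simpa using hOn.conj_mem w hw (h.f g)⁻¹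
      have h1 : orderOf ((h.f g)⁻¹ * w * h.f g) ∣ 2 ^ 4 := by
        have := Subgroup.orderOf_dvd_natCard h.P0 hw'
        rw [h.card_P0] at this
        simpa using this
      have h2 := hodd.of_dvd_nat (Subgroup.orderOf_dvd_natCard O hwO)
      have h3 := orderOf_eq_one_iff.1 (Nat.eq_one_of_dvd_coprimes
        ((Nat.coprime_two_left.2 h2).pow_left 4) h1 dvd_rfl)
      calc w = h.f g * ((h.f g)⁻¹ * w * h.f g) * (h.f g)⁻¹ := by group
        _ = 1 := by rw [h3]; group
    have hxx : h.f (g * dd * g⁻¹) * h.f (g * dd * g⁻¹) = 1 := by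
      rw [← map_mul, show g * dd * g⁻¹ * (g * dd * g⁻¹) = g * (dd * dd) * g⁻¹ by group, special.2.1]
      simp
    exact fun w hw => ⟨(BSW.inverts_of_free O hxx (fun v hv => hOn.conj_mem v hv _) hfree).1 w hw,
      fun hc => hfree w hw hc.symm⟩
  rw [Subgroup.eq_bot_iff_forall]
  intro w hw
  have hm1 : sw 0 2 * sw 1 3 ∈ D0 := by decide +kernel
  have hm2 : sw 0 1 * sw 2 3 ∈ D0 := by decide +kernel
  have hm3 : sw 0 3 * sw 1 2 ∈ D0 := by decide +kernel
  have e3 : sw 0 2 * sw 1 3 * (sw 0 1 * sw 2 3) = sw 0 3 * sw 1 2 := by decide +kernel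
  have h3 := (hinv _ hm3 w hw).2
  refine h3 ?_
  rw [← e3, map_mul]
  set u := h.f (sw 0 2 * sw 1 3)
  set v := h.f (sw 0 1 * sw 2 3)
  have h1 := (hinv _ hm1 w⁻¹ (inv_mem hw)).1
  have h2 := (hinv _ hm2 w hw).1
  symm
  calc u * v * w = u * (v * w * v⁻¹) * v := by group
    _ = (u * w⁻¹ * u⁻¹) * (u * v) := by rw [h2]; group
    _ = w * (u * v) := by rw [h1, inv_inv]

theorem eq_tau_or {x : M0} (hx : IsConj h.t (h.f x)) : x = τ ∨ x ∈ U0 ∨ x ∈ U1 := by
  obtain ⟨g, hg⟩ := isConj_iff.1 hx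
  have hxx : x * x = 1 := h.inj (by
    rw [map_mul, map_one, ← hg, show g * h.t * g⁻¹ * (g * h.t * g⁻¹) = g * (h.t * h.t) * g⁻¹ by group, h.t_mul]
    group)
  rcases involutions x hxx with rfl | e | e | e | e | e
  · exfalso
    rw [map_one] at hg
    exact h.t_ne_one (conj_eq_one_iff.1 hg)
  · exact Or.inl e
  · exact Or.inr (Or.inl e)
  · exact Or.inr (Or.inr e)
  · exfalso
    obtain ⟨k, rfl⟩ := conj_D0 x e
    refine h.not_conj_c (hx.trans (isConj_iff.2 ⟨h.f k⁻¹, ?_⟩))
    simp [mul_assoc]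
  · exfalso
    obtain ⟨k, rfl⟩ := conj_D1 x e
    refine h.not_conj_td (hx.trans (isConj_iff.2 ⟨h.f k⁻¹, ?_⟩))
    simp [mul_assoc]

theorem isolated_case (h0 : ¬ IsConj h.t (h.f (sw 0 2))) (h1 : ¬ IsConj h.t (h.f (τ * sw 0 2))) :
    ∀ g : G, g * h.t = h.t * g := by
  have hiso : Cfsg.IsIsolatedInvolution h.t := by
    refine ⟨h.orderOf_t, fun g hc => ?_⟩
    obtain ⟨x, hx⟩ := (h.cent _).1 hc.eq.symm
    have hconj : IsConj h.t (h.f x) := hx.symm ▸ isConj_iff.2 ⟨g, rfl⟩
    rcases h.eq_tau_or hconj with rfl | e | e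
    · exact hx.symm
    · exfalso
      obtain ⟨k, rfl⟩ := conj_U0 x e
      exact h0 (hconj.trans (isConj_iff.2 ⟨h.f k⁻¹, by simp [mul_assoc]⟩))
    · exfalso
      obtain ⟨k, rfl⟩ := conj_U1 x e
      exact h1 (hconj.trans (isConj_iff.2 ⟨h.f k⁻¹, by simp [mul_assoc]⟩))
  intro g
  have := ZStar.zStar_of_brauerSuzuki ZStarPrimePower.uniqueInvolutionZStar_proved hiso g
  rw [h.core_trivial, Subgroup.mem_bot] at this
  exact (commutatorElement_eq_one_iff_mul_comm.1 (by rwa [commutatorElement_def])).symm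

/-- Replacing `f` by its twist. -/
def twist : Hyp G where
  f := h.f.comp flipEquiv.toMonoidHom
  inj := h.inj.comp flipEquiv.injective
  cent g := by
    have e1 : (h.f.comp flipEquiv.toMonoidHom) τ = h.f τ := by
      change h.f (flip0 τ) = _
      rw [flip_facts.1]
    rw [e1, h.cent, MonoidHom.range_comp, show flipEquiv.toMonoidHom.range = ⊤ from MonoidHom.range_eq_top.2 flipEquiv.surjective, ← MonoidHom.range_eq_map]
  sylow := h.sylow
  card_sylow := h.card_sylow

theorem twist_t : h.twist.t = h.t := by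
  change h.f (flip0 τ) = h.f τ
  rw [flip_facts.1]

theorem twist_sw : h.twist.f (sw 0 2) = h.f (τ * sw 0 2) := by
  change h.f (flip0 (sw 0 2)) = _
  rw [flip_facts.2]

end Hyp

end Cfsg.Agent.SymSix
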