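/-
The fused case of the characterisation of `S₆`: the central involution is conjugate to a transposition.

* `Hyp.conj_iff` : its class meets the centraliser in seven elements
* `Hyp.card_group` : the order is 720
* `Hyp.iso` : the group is `S₆`
-/
import Cfsg.Agent.Lib.SymSix.Local
import Cfsg.Agent.Lib.BSW.Dihedral
import Cfsg.Agent.Lib.SymRecog.Coxeter
import Cfsg.Agent.Lib.SmallOrders.Centralizer
import Cfsg.Agent.S0111
import Cfsg.Agent.S0206
import Cfsg.Agent.EqLemmas

set_option autoImplicit false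
set_option linter.style.haveILetI false

namespace Cfsg.Agent.SymSix

set_option maxRecDepth 100000

theorem class_facts : (∀ x ∈ U0, x ≠ τ) ∧ τ ∉ U1 ∧ τ ∉ D0 := by decide +kernel

theorem member_facts : sw 0 1 * sw 2 3 ∈ D0 ∧ sw 0 2 * sw 1 3 = dd ∧ sw 0 2 ∈ U0 ∧ sw 1 3 ∈ U0 ∧
    sw 0 3 ∈ U0 := by decide +kernel

theorem pair_facts : ∀ a ∈ ({sw 0 1, sw 2 3} : Finset M0), ∀ b ∈ ({sw 0 2, sw 1 3} : Finset M0),
    a * b ≠ b * a ∧ a ∈ U0 ∧ b ∈ U0 := by decide +kernel

theorem opp_facts : sw 0 2 * sw 1 3 = sw 1 3 * sw 0 2 ∧ sw 0 2 * sw 1 3 ∈ D0 := by decide +kernel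

universe u

variable {G : Type u} [Group G] [Finite G]

namespace Hyp

variable (h : Hyp G)

theorem conj_of_conj {g x y : M0} (e : g * x * g⁻¹ = y) : IsConj (h.f x) (h.f y) :=
  isConj_iff.2 ⟨h.f g, by rw [← map_inv, ← map_mul, ← map_mul, e]⟩

theorem mem_range_of_commute_c {g : G} (hg : g * h.f dd = h.f dd * g) : g ∈ h.f.range := by
  obtain ⟨x, -, rfl⟩ := h.cent_c.1 hg
  exact ⟨x, rfl⟩

variable (hf : IsConj h.t (h.f (sw 0 2)))

include hf in
theorem conj_U0' {x : M0} (hx : x ∈ U0) : IsConj h.t (h.f x) := by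
  obtain ⟨k, hk⟩ := conj_U0 x hx
  exact hf.trans (h.conj_of_conj hk)

include hf in
theorem U1_conj_c {x : M0} (hx : x ∈ U1) : IsConj (h.f dd) (h.f x) := by
  classical
  obtain ⟨g, hg⟩ := isConj_iff.1 hf.symm
  obtain ⟨h02, hdd, -⟩ := special
  have hcomm : g * h.f dd * g⁻¹ * h.t = h.t * (g * h.f dd * g⁻¹) := by
    rw [← hg, show g * h.f dd * g⁻¹ * (g * h.f (sw 0 2) * g⁻¹) = g * h.f (dd * sw 0 2) * g⁻¹ by
      rw [map_mul]; group, show g * h.f (sw 0 2) * g⁻¹ * (g * h.f dd * g⁻¹) = g * h.f (sw 0 2 * dd) * g⁻¹ by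
      rw [map_mul]; group, h02]
  obtain ⟨y, hy⟩ := (h.cent _).1 hcomm
  have hyy : y * y = 1 := h.inj (by
    rw [map_mul, hy, show g * h.f dd * g⁻¹ * (g * h.f dd * g⁻¹) = g * h.f (dd * dd) * g⁻¹ by rw [map_mul]; group,
      hdd, map_one, mul_one, mul_inv_cancel])
  have hset : h.f '' {b | b * y = y * b} =
      (fun z => g * z * g⁻¹) '' (h.f '' {a | a * dd = dd * a ∧ a * sw 0 2 = sw 0 2 * a}) := by
    ext z
    constructor
    · rintro ⟨b, hb : b * y = y * b, rfl⟩
      have hb1 : g⁻¹ * h.f b * g * h.f dd = h.f dd * (g⁻¹ * h.f b * g) := by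
        calc g⁻¹ * h.f b * g * h.f dd = g⁻¹ * (h.f b * h.f y) * g := by rw [hy]; group
          _ = g⁻¹ * (h.f y * h.f b) * g := by rw [← map_mul, hb, map_mul]
          _ = _ := by rw [hy]; group
      obtain ⟨a, ha, hae⟩ := h.cent_c.1 hb1
      have ha2 : a * sw 0 2 = sw 0 2 * a := h.inj (by
        rw [map_mul, map_mul, hae]
        calc g⁻¹ * h.f b * g * h.f (sw 0 2) = g⁻¹ * (h.f b * h.t) * g := by rw [← hg]; group
          _ = g⁻¹ * (h.t * h.f b) * g := by rw [h.commute_t]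
          _ = _ := by rw [← hg]; group)
      exact ⟨h.f a, ⟨a, ⟨Subgroup.mem_centralizer_singleton_iff.1 ha, ha2⟩, rfl⟩, by rw [hae]; group⟩
    · rintro ⟨_, ⟨a, ⟨ha1, ha2⟩, rfl⟩, rfl⟩
      obtain ⟨b, hb⟩ := (h.cent (g * h.f a * g⁻¹)).1 (by
        change g * h.f a * g⁻¹ * h.t = h.t * (g * h.f a * g⁻¹)
        rw [← hg, show g * h.f a * g⁻¹ * (g * h.f (sw 0 2) * g⁻¹) = g * h.f (a * sw 0 2) * g⁻¹ by
          rw [map_mul]; group, ha2, map_mul]
        group)
      refine ⟨b, h.inj ?_, hb⟩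
      rw [map_mul, map_mul, hb, hy,
        show g * h.f a * g⁻¹ * (g * h.f dd * g⁻¹) = g * h.f (a * dd) * g⁻¹ by rw [map_mul]; group,
        ha1, map_mul]
      group
  have hcard : Fintype.card {b : M0 // b * y = y * b} = 8 := by
    have h1 := congrArg Set.ncard hset
    rw [Set.ncard_image_of_injective _ h.inj,
      Set.ncard_image_of_injective _ fun p q e => mul_left_cancel (mul_right_cancel e),
      Set.ncard_image_of_injective _ h.inj, ← Nat.card_coe_set_eq, ← Nat.card_coe_set_eq] at h1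
    rw [← Nat.card_eq_fintype_card, ← card_cent_dd_sw, ← Nat.card_eq_fintype_card]
    exact h1
  rcases cent_eight y hyy hcard with hy0 | hy1
  · exfalso
    exact h.not_conj_c ((h.conj_U0' hf hy0).trans (hy ▸ (isConj_iff.2 ⟨g, rfl⟩ : IsConj (h.f dd) _)).symm)
  · obtain ⟨k, hk⟩ := conj_U1 y hy1
    obtain ⟨l, hl⟩ := conj_U1 x hx
    exact ((hy ▸ (isConj_iff.2 ⟨g, rfl⟩ : IsConj (h.f dd) _)).trans (h.conj_of_conj hk).symm).trans
      (h.conj_of_conj hl)

include hf in
theorem conj_iff {x : M0} : IsConj h.t (h.f x) ↔ x = τ ∨ x ∈ U0 := by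
  constructor
  · intro hx
    rcases h.eq_tau_or hx with e | e | e
    · exact Or.inl e
    · exact Or.inr e
    · exact absurd (hx.trans (h.U1_conj_c hf e).symm) h.not_conj_c
  · rintro (rfl | e)
    · exact IsConj.refl _
    · exact h.conj_U0' hf e

/-- The index-two subgroup of the chosen Sylow subgroup. -/
def Q : Subgroup G := (Subgroup.centralizer ({dd} : Set M0) ⊓ chiHom.ker).map h.f

theorem mem_Q {x : M0} : h.f x ∈ h.Q ↔ x * dd = dd * x ∧ chi x = 1 := by
  rw [Q, Subgroup.mem_map_iff_mem h.inj, Subgroup.mem_inf, Subgroup.mem_centralizer_singleton_iff]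
  exact Iff.rfl

theorem Q_le : h.Q ≤ h.P0 := Subgroup.map_mono inf_le_left

theorem card_Q : Nat.card h.Q = 8 := by
  rw [Q, ← Nat.card_congr (Subgroup.equivMapOfInjective _ _ h.inj).toEquiv, ← chi_facts.2.2.2.1,
    ← Nat.card_eq_fintype_card]
  exact Nat.card_congr (Equiv.subtypeEquivRight fun x =>
    Subgroup.mem_inf.trans (and_congr Subgroup.mem_centralizer_singleton_iff MonoidHom.mem_ker))

include hf in
theorem exists_M : ∃ M : Subgroup G, M.Normal ∧ M.index = 2 ∧ h.t ∉ M := by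
  obtain ⟨P, hP⟩ := h.exists_sylow
  have hidx : h.Q.relIndex (P : Subgroup G) = 2 := by
    have h1 := Subgroup.relIndex_mul_index h.Q_le
    have h2 := Subgroup.card_mul_index h.Q
    have h3 := Subgroup.card_mul_index h.P0
    rw [h.card_Q, ← h1] at h2
    rw [h.card_P0, ← h2, ← mul_assoc] at h3
    have hne : h.P0.index ≠ 0 := Subgroup.index_ne_zero_of_finite
    have := Nat.eq_of_mul_eq_mul_right (Nat.pos_of_ne_zero hne) h3
    rw [hP]
    omega
  refine (S0111.result P h.Q (hP ▸ h.Q_le) hidx h.t h.orderOf_t ?_ ?_).resolve_right ?_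
  · rw [hP]
    exact ⟨τ, Subgroup.mem_centralizer_singleton_iff.2 (tau_central _).symm, rfl⟩
  · intro ht
    exact chi_facts.1 ((h.mem_Q).1 ht).2
  · rintro ⟨g, hg⟩
    obtain ⟨x, hxm, hx⟩ := hg
    have hconj : IsConj h.t (h.f x) := isConj_iff.2 ⟨g, hx.symm⟩
    have hxQ := (h.mem_Q (x := x)).1 ⟨x, hxm, rfl⟩
    have hxx : x * x = 1 := h.inj (by
      rw [map_mul, map_one, hx, show g * h.t * g⁻¹ * (g * h.t * g⁻¹) = g * (h.t * h.t) * g⁻¹ by group, h.t_mul]
      group)
    obtain ⟨hU0, hτ1, hτ0⟩ := class_facts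
    rcases chi_facts.2.2.2.2 x hxQ.1 hxQ.2 hxx with e | e | e <;>
      rcases (h.conj_iff hf).1 hconj with e' | e'
    · exact special.2.2.2.2.1 (e'.symm.trans e)
    · exact (U0_inv _ e').2.1 e
    · exact hτ0 (e' ▸ e)
    · exact (U0_disjoint _ e').2.1 e
    · exact hτ1 (e' ▸ e)
    · exact (U0_disjoint _ e').1 e

include hf in
theorem mem_M {M : Subgroup G} (hMn : M.Normal) (hi : M.index = 2) (ht : h.t ∉ M) :
    h.f dd ∈ M ∧ h.Q ≤ M ∧ (∀ g : G, g ∈ h.P0 → g ∈ M → g ∈ h.Q) ∧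
      ∃ v w : G, orderOf v = 2 ∧ orderOf w = 2 ∧ v ≠ w ∧ orderOf (v * w) = 4 ∧
        Subgroup.closure ({v, w} : Set G) = h.Q ∧ (v * w) ^ 2 = h.f dd ∧
        IsConj (h.f dd) v ∧ IsConj (h.f dd) w := by
  have hout : ∀ x ∈ U0, h.f x ∉ M := by
    intro x hx hm
    obtain ⟨g, hg⟩ := isConj_iff.1 (h.conj_U0' hf hx).symm
    exact ht (hg ▸ hMn.conj_mem _ hm g)
  obtain ⟨hw0, hdd, h02, h13, -⟩ := member_facts
  have hc : h.f dd ∈ M := by
    rw [← hdd, map_mul, Subgroup.mul_mem_iff_of_index_two hi]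
    exact iff_of_false (hout _ h02) (hout _ h13)
  obtain ⟨hv2, hv1, hw2, hw1, hvw, hvU, hwD, hvd, hwd, hvc, hwc, h4, hsq⟩ := q_generators
  set v := h.f (τ * sw 0 2)
  set w := h.f (sw 0 1 * sw 2 3)
  have hov : orderOf v = 2 := orderOf_eq_prime (by rw [pow_two, ← map_mul, hv2, map_one])
    fun e => hv1 (h.inj (e.trans (map_one h.f).symm))
  have how : orderOf w = 2 := orderOf_eq_prime (by rw [pow_two, ← map_mul, hw2, map_one])
    fun e => hw1 (h.inj (e.trans (map_one h.f).symm))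
  have hne : v ≠ w := fun e => hvw (h.inj e)
  have hsq' : (v * w) ^ 2 = h.f dd := by rw [← map_mul, ← map_pow, hsq]
  have ho4 : orderOf (v * w) = 4 := by
    haveI := Fact.mk Nat.prime_two
    refine orderOf_eq_prime_pow (p := 2) (n := 1) ?_ ?_
    · rw [pow_one, hsq']
      exact fun e => special.2.2.1 (h.inj (e.trans (map_one h.f).symm))
    · rw [show 2 ^ (1 + 1) = 4 from rfl, ← map_mul, ← map_pow, h4, map_one]
  have hvQ : v ∈ h.Q := h.mem_Q.2 ⟨hvd, hvc⟩
  have hwQ : w ∈ h.Q := h.mem_Q.2 ⟨hwd, hwc⟩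
  obtain ⟨e⟩ := S0206.result v w hov how hne
  have hcl : Subgroup.closure ({v, w} : Set G) = h.Q := by
    refine Subgroup.eq_of_le_of_card_ge ((Subgroup.closure_le _).2 ?_) ?_
    · rintro x (rfl | rfl)
      · exact hvQ
      · exact hwQ
    · rw [h.card_Q, Nat.card_congr e.toEquiv, DihedralGroup.nat_card, ho4]
  have hcv : IsConj (h.f dd) v := h.U1_conj_c hf hvU
  have hcw : IsConj (h.f dd) w := by
    obtain ⟨k, hk⟩ := conj_D0 _ hwD
    exact h.conj_of_conj hk
  have hQM : h.Q ≤ M := by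
    rw [← hcl, Subgroup.closure_le]
    rintro x (rfl | rfl)
    · obtain ⟨g, hg⟩ := isConj_iff.1 hcv
      exact hg ▸ hMn.conj_mem _ hc g
    · obtain ⟨g, hg⟩ := isConj_iff.1 hcw
      exact hg ▸ hMn.conj_mem _ hc g
  refine ⟨hc, hQM, fun g hg hgM => ?_, v, w, hov, how, hne, ho4, hcl, hsq', hcv, hcw⟩
  obtain ⟨x, hx, rfl⟩ := hg
  have hxd := Subgroup.mem_centralizer_singleton_iff.1 hx
  refine h.mem_Q.2 ⟨hxd, ?_⟩
  by_contra hne'
  have h1 : h.f (τ * x) ∈ h.Q := h.mem_Q.2 ⟨by rw [mul_assoc, hxd, ← mul_assoc, ← mul_assoc, tau_central dd], by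
    change chiHom (τ * x) = 1
    rw [map_mul]
    have hz : ∀ a b : Multiplicative (ZMod 2), a ≠ 1 → b ≠ 1 → a * b = 1 := by decide
    exact hz _ _ chi_facts.1 hne'⟩
  have h2 := hQM h1
  rw [map_mul, Subgroup.mul_mem_iff_of_index_two hi] at h2
  exact ht (h2.2 hgM)

theorem card_G {n : ℕ} (hn : Nat.card {g : G // IsConj h.t g} = n) : Nat.card G = n * 48 := by
  rw [← hn, ← h.card_cent_t, SmallOrders.card_isConj_class]

include hf in
theorem card_cases : Nat.card G = 336 ∨ Nat.card G = 720 := by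
  obtain ⟨M, hMn, hi, ht⟩ := h.exists_M hf
  obtain ⟨hc, hQM, hP, v, w, hv, hw, hvw, h4, hcl, hsq, hcv, hcw⟩ := h.mem_M hf hMn hi ht
  obtain ⟨P, hP0⟩ := h.exists_sylow
  have hG : 2 * Nat.card M = Nat.card G := by rw [← hi, mul_comm, Subgroup.card_mul_index]
  have hvM : v ∈ M := hQM (hcl ▸ Subgroup.subset_closure (by simp))
  have hwM : w ∈ M := hQM (hcl ▸ Subgroup.subset_closure (by simp))
  let c : M := ⟨h.f dd, hc⟩
  let v' : M := ⟨v, hvM⟩
  let w' : M := ⟨w, hwM⟩
  have hv' : orderOf v' = 2 := by rw [← Subgroup.orderOf_coe]; exact hv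
  have hw' : orderOf w' = 2 := by rw [← Subgroup.orderOf_coe]; exact hw
  have hco : orderOf c = 2 := by
    rw [← Subgroup.orderOf_coe]
    refine orderOf_eq_prime (by rw [pow_two, ← map_mul, special.2.1, map_one])
      fun e => special.2.2.1 (h.inj (e.trans (map_one h.f).symm))
  obtain ⟨e⟩ := S0206.result v' w' hv' hw' fun e => hvw (congrArg Subtype.val e)
  have h4' : orderOf (v' * w') = 4 := by rw [← Subgroup.orderOf_coe]; exact h4
  have hmap : (Subgroup.closure ({v', w'} : Set M)).map M.subtype = h.Q := by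
    rw [MonoidHom.map_closure, Set.image_pair]
    exact hcl
  have hcent : BSW.cent c = Subgroup.closure ({v', w'} : Set M) := by
    apply Subgroup.map_injective M.subtype_injective
    rw [hmap]
    ext g
    constructor
    · rintro ⟨m, hm, rfl⟩
      exact hP _ (h.cent_c.1 (congrArg Subtype.val (BSW.mem_cent.1 hm))) m.2
    · intro hg
      exact ⟨⟨g, hQM hg⟩, BSW.mem_cent.2 (Subtype.ext (h.cent_c.2 (h.Q_le hg))), rfl⟩
  have hidx : ∀ H : Subgroup M, H.index ≠ 2 := by
    intro H hH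
    have hcH : c ∈ H := by
      have : c = (v' * w') ^ 2 := Subtype.ext hsq.symm
      rw [this]
      exact Subgroup.sq_mem_of_index_two hH _
    have key : ∀ u : M, IsConj (h.f dd) (u : G) → u ∈ H := by
      intro u hu
      obtain ⟨g, hg⟩ := isConj_iff.1 hu
      haveI := Subgroup.normal_of_index_eq_two hH
      by_cases hgM : g ∈ M
      · rw [show u = ⟨g, hgM⟩ * c * ⟨g, hgM⟩⁻¹ from Subtype.ext hg.symm]
        exact Subgroup.Normal.conj_mem inferInstance _ hcH _
      · have hgt : g * h.t ∈ M := (Subgroup.mul_mem_iff_of_index_two hi).2 (iff_of_false hgM ht)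
        have hu' : (g * h.t) * h.f dd * (g * h.t)⁻¹ = u := by
          rw [← hg]
          calc g * h.t * h.f dd * (g * h.t)⁻¹ = g * (h.t * h.f dd) * h.t⁻¹ * g⁻¹ := by group
            _ = _ := by rw [← h.commute_t]; group
        rw [show u = ⟨_, hgt⟩ * c * ⟨_, hgt⟩⁻¹ from Subtype.ext hu'.symm]
        exact Subgroup.Normal.conj_mem inferInstance _ hcH _
    have hle : Subgroup.closure ({v', w'} : Set M) ≤ H := by
      rw [Subgroup.closure_le]
      rintro x (rfl | rfl)
      · exact key _ hcv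
      · exact key _ hcw
    have h8 : 8 ∣ Nat.card H := by
      have := Subgroup.card_dvd_of_le hle
      rwa [Nat.card_congr e.toEquiv, DihedralGroup.nat_card, h4'] at this
    have h32 : 2 ^ 5 ∣ Nat.card G := by
      rw [← hG, ← Subgroup.card_mul_index H, hH]
      obtain ⟨k, hk⟩ := h8
      exact ⟨k, by rw [hk]; ring⟩
    haveI := Fact.mk Nat.prime_two
    have := P.pow_dvd_card_of_pow_dvd_card h32
    rw [h.card_sylow P] at this
    omega
  obtain ⟨s, K, hK, h4K⟩ := BSW.hyp_of_dihedral hco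
    (((MulEquiv.subgroupCongr hcent).trans e).trans (h4' ▸ MulEquiv.refl _)) hidx
  rcases hK.card_cases h4K with h1 | ⟨h1, -⟩ <;> [left; right] <;> omega

/-- The conjugates of the central involution outside the centraliser. -/
def outer : Set G := {g | IsConj h.t g ∧ g ∉ h.f.range}

include hf in
theorem ncard_outer : h.outer.ncard = 8 ∧ Nat.card G = 720 := by
  classical
  have hin : {g | IsConj h.t g ∧ g ∈ h.f.range} = h.f '' ↑(insert τ U0) := by
    ext g
    constructor
    · rintro ⟨hg, x, rfl⟩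
      exact ⟨x, by simpa using (h.conj_iff hf).1 hg, rfl⟩
    · rintro ⟨x, hx, rfl⟩
      exact ⟨(h.conj_iff hf).2 (by simpa using hx), x, rfl⟩
  have h7 : {g | IsConj h.t g ∧ g ∈ h.f.range}.ncard = 7 := by
    rw [hin, Set.ncard_image_of_injective _ h.inj, Set.ncard_coe_finset,
      Finset.card_insert_of_notMem (fun e => class_facts.1 τ e rfl), card_U0]
  have hsum : Nat.card {g : G // IsConj h.t g} = h.outer.ncard + 7 := by
    rw [← h7, show Nat.card {g : G // IsConj h.t g} = {g | IsConj h.t g}.ncard from Nat.card_coe_set_eq _,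
      ← Set.ncard_union_eq ?_ (Set.toFinite _) (Set.toFinite _)]
    · congr 1
      ext g
      constructor
      · intro hg
        by_cases hr : g ∈ h.f.range
        · exact Or.inr ⟨hg, hr⟩
        · exact Or.inl ⟨hg, hr⟩
      · rintro (⟨hg, -⟩ | ⟨hg, -⟩) <;> exact hg
    · exact Set.disjoint_left.2 fun g h1 h2 => h1.2 h2.2
  have hG := h.card_G hsum
  rcases h.card_cases hf with h1 | h1
  · exfalso
    have h0 : h.outer.ncard = 0 := by omega
    rw [Set.ncard_eq_zero (Set.toFinite _)] at h0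
    have hall : ∀ g, IsConj h.t g → g * h.t = h.t * g := fun g hg => by
      by_contra hne
      exact Set.eq_empty_iff_forall_notMem.1 h0 g ⟨hg, fun hr => hne ((h.cent g).2 hr)⟩
    have key : ∀ a b, IsConj h.t a → IsConj h.t b → a * b = b * a := by
      intro a b ha hb
      obtain ⟨g, rfl⟩ := isConj_iff.1 ha
      have hb' := hall (g⁻¹ * b * g) (hb.trans (isConj_iff.2 ⟨g⁻¹, by rw [inv_inv]⟩))
      calc g * h.t * g⁻¹ * b = g * (h.t * (g⁻¹ * b * g)) * g⁻¹ := by group
        _ = _ := by rw [← hb']; group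
    obtain ⟨h01, h12, -⟩ := chain_facts
    exact sw_noncomm (h.inj (by
      rw [map_mul, map_mul]
      exact key _ _ (h.conj_U0' hf h01) (h.conj_U0' hf h12)))
  · exact ⟨by omega, h1⟩

include hf in
theorem braid {a b d : G} (ha : IsConj h.t a) (hb : IsConj h.t b) (hd : IsConj h.t d)
    (had : a * d = d * a) (hbd : b * d = d * b) (hab : a * b ≠ b * a) : a * b * a = b * a * b := by
  obtain ⟨g, rfl⟩ := isConj_iff.1 hd
  have aux : ∀ z : G, z * (g * h.t * g⁻¹) = g * h.t * g⁻¹ * z → IsConj h.t z →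
      ∃ x : M0, h.f x = g⁻¹ * z * g ∧ (x = τ ∨ x ∈ U0) := by
    intro z hz hzc
    obtain ⟨x, hx⟩ := (h.cent (g⁻¹ * z * g)).1 (by
      change g⁻¹ * z * g * h.t = h.t * (g⁻¹ * z * g)
      calc g⁻¹ * z * g * h.t = g⁻¹ * (z * (g * h.t * g⁻¹)) * g := by group
        _ = _ := by rw [hz]; group)
    exact ⟨x, hx, (h.conj_iff hf).1 (hx ▸ hzc.trans (isConj_iff.2 ⟨g⁻¹, by rw [inv_inv]⟩))⟩
  obtain ⟨x, hx, hxU⟩ := aux a had ha
  obtain ⟨y, hy, hyU⟩ := aux b hbd hb
  have hxy : x * y ≠ y * x := fun e => hab (by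
    have e2 := congrArg h.f e
    rw [map_mul, map_mul, hx, hy] at e2
    calc a * b = g * (g⁻¹ * a * g * (g⁻¹ * b * g)) * g⁻¹ := by group
      _ = _ := by rw [e2]; group)
  rcases hxU with rfl | hxU
  · exact absurd (tau_central y).symm hxy
  rcases hyU with rfl | hyU
  · exact absurd (tau_central x) hxy
  have e2 := congrArg h.f (U0_braid x hxU y hyU hxy)
  simp only [map_mul, hx, hy] at e2
  calc a * b * a = g * (g⁻¹ * a * g * (g⁻¹ * b * g) * (g⁻¹ * a * g)) * g⁻¹ := by group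
    _ = _ := by rw [e2]; group

include hf in
theorem exists_four : ∃ x : G, IsConj h.t x ∧ x ∉ h.f.range ∧
    x * h.f (sw 0 1) = h.f (sw 0 1) * x ∧ x * h.f (sw 1 2) = h.f (sw 1 2) * x := by
  classical
  haveI := Fintype.ofFinite G
  set E : Finset G := Finset.univ.filter fun g => g ∈ h.outer
  have hE : E.card = 8 := by
    rw [← (h.ncard_outer hf).1, ← Set.ncard_coe_finset]
    congr 1
    simp [E]
  have hEm : ∀ z, z ∈ E ↔ IsConj h.t z ∧ z ∉ h.f.range := fun z => by
    simp only [E, Finset.mem_filter, Finset.mem_univ, true_and]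
    exact Iff.rfl
  -- each transposition commutes with exactly four of them
  have hfour : ∀ a ∈ U0, (E.filter fun x => x * h.f a = h.f a * x).card = 4 := by
    intro a ha
    obtain ⟨g, hg⟩ := isConj_iff.1 (h.conj_U0' hf ha)
    have hbij : ({x | IsConj h.t x ∧ x * h.f a = h.f a * x} : Set G) =
        (fun z => g * z * g⁻¹) '' (h.f '' ↑(insert τ U0)) := by
      ext x
      constructor
      · rintro ⟨hxc, hxa⟩
        obtain ⟨z, hz⟩ := (h.cent (g⁻¹ * x * g)).1 (by
          change g⁻¹ * x * g * h.t = h.t * (g⁻¹ * x * g)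
          calc g⁻¹ * x * g * h.t = g⁻¹ * (x * h.f a) * g := by rw [← hg]; group
            _ = _ := by rw [hxa, ← hg]; group)
        exact ⟨h.f z, ⟨z, by
          simpa using (h.conj_iff hf).1 (hz ▸ hxc.trans (isConj_iff.2 ⟨g⁻¹, by rw [inv_inv]⟩)), rfl⟩,
          by rw [hz]; group⟩
      · rintro ⟨_, ⟨z, hz, rfl⟩, rfl⟩
        refine ⟨((h.conj_iff hf).2 (by simpa using hz)).trans (isConj_iff.2 ⟨g, rfl⟩), ?_⟩
        rw [← hg]
        calc g * h.f z * g⁻¹ * (g * h.t * g⁻¹) = g * (h.f z * h.t) * g⁻¹ := by group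
          _ = _ := by rw [h.commute_t]; group
    have h7 : ({x | IsConj h.t x ∧ x * h.f a = h.f a * x} : Set G).ncard = 7 := by
      rw [hbij, Set.ncard_image_of_injective _ fun p q e => mul_left_cancel (mul_right_cancel e),
        Set.ncard_image_of_injective _ h.inj, Set.ncard_coe_finset,
        Finset.card_insert_of_notMem (fun e => class_facts.1 τ e rfl), card_U0]
    have hins : ({x | IsConj h.t x ∧ x * h.f a = h.f a * x} : Set G) =
        ↑(E.filter fun x => x * h.f a = h.f a * x) ∪ h.f '' ↑(insert τ (U0.filter fun b => a * b = b * a)) := by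
      ext x
      constructor
      · rintro ⟨hxc, hxa⟩
        by_cases hr : x ∈ h.f.range
        · obtain ⟨z, rfl⟩ := hr
          refine Or.inr ⟨z, ?_, rfl⟩
          rcases (h.conj_iff hf).1 hxc with rfl | hz
          · simp
          · simp only [Finset.coe_insert, Finset.coe_filter, Set.mem_insert_iff, Set.mem_ofPred_eq]
            exact Or.inr ⟨hz, h.inj (by rw [map_mul, map_mul, hxa])⟩
        · exact Or.inl (Finset.mem_coe.2 (Finset.mem_filter.2 ⟨(hEm x).2 ⟨hxc, hr⟩, hxa⟩))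
      · rintro (hx | ⟨z, hz, rfl⟩)
        · exact ⟨((hEm x).1 (Finset.mem_filter.1 (Finset.mem_coe.1 hx)).1).1,
            (Finset.mem_filter.1 (Finset.mem_coe.1 hx)).2⟩
        · simp only [Finset.coe_insert, Finset.coe_filter, Set.mem_insert_iff, Set.mem_ofPred_eq] at hz
          rcases hz with rfl | ⟨hzU, hza⟩
          · exact ⟨IsConj.refl _, (h.commute_t a).symm⟩
          · exact ⟨(h.conj_iff hf).2 (Or.inr hzU), by rw [← map_mul, ← map_mul, hza]⟩
    rw [hins, Set.ncard_union_eq ?_ (Set.toFinite _) (Set.toFinite _),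
      Set.ncard_image_of_injective _ h.inj, Set.ncard_coe_finset, Set.ncard_coe_finset,
      Finset.card_insert_of_notMem (fun e => class_facts.1 τ (Finset.mem_filter.1 e).1 rfl), U0_opp a ha] at h7
    · omega
    · refine Set.disjoint_left.2 fun x hx hx' => ?_
      obtain ⟨z, -, rfl⟩ := hx'
      exact ((hEm _).1 (Finset.mem_filter.1 (Finset.mem_coe.1 hx)).1).2 ⟨z, rfl⟩
  -- at most one in each opposite pair
  have hpair : ∀ a b : M0, a * b = b * a → a * b ∈ D0 → ∀ x ∈ E,
      ¬ (x * h.f a = h.f a * x ∧ x * h.f b = h.f b * x) := by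
    rintro a b - hab x hx ⟨hxa, hxb⟩
    replace hx := (hEm x).1 hx
    obtain ⟨k, hk⟩ := conj_D0 _ hab
    have hxab : x * h.f (a * b) = h.f (a * b) * x := by
      rw [map_mul, ← mul_assoc, hxa, mul_assoc, hxb, ← mul_assoc]
    rw [← hk, map_mul, map_mul, map_inv] at hxab
    obtain ⟨y, hy⟩ := h.mem_range_of_commute_c (g := (h.f k)⁻¹ * x * h.f k) (by
      calc (h.f k)⁻¹ * x * h.f k * h.f dd = (h.f k)⁻¹ * (x * (h.f k * h.f dd * (h.f k)⁻¹)) * h.f k := by group
        _ = _ := by rw [hxab]; group)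
    refine hx.2 ⟨k * y * k⁻¹, ?_⟩
    rw [map_mul, map_mul, hy, map_inv]
    group
  let c : M0 → G → ℕ := fun a x => if x * h.f a = h.f a * x then 1 else 0
  have hsum : ∀ a ∈ U0, ∑ x ∈ E, c a x = 4 := fun a ha => by
    simp only [c]
    rw [← Finset.card_filter, hfour a ha]
  have hpr := pair_facts
  obtain ⟨hc02, hm2⟩ := opp_facts
  obtain ⟨h01, h12, h23, hc01, -, -, -⟩ := chain_facts
  obtain ⟨hm1, -, hu02, hu13, -⟩ := member_facts
  have hle : ∀ (a b : M0) (hab : a * b = b * a) (hd : a * b ∈ D0), ∀ x ∈ E, c a x + c b x ≤ 1 := by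
    intro a b hab hd x hx
    have := hpair a b hab hd x hx
    by_cases ha : x * h.f a = h.f a * x
    · simp only [c, if_pos ha, if_neg (fun e => this ⟨ha, e⟩ : ¬ x * h.f b = h.f b * x)]
      omega
    · simp only [c, if_neg ha]
      split <;> omega
  have hex : ∀ (a b : M0), a ∈ U0 → b ∈ U0 → a * b = b * a → a * b ∈ D0 → ∀ x ∈ E, c a x + c b x = 1 := by
    intro a b ha hb hab hd
    refine (Finset.sum_eq_sum_iff_of_le (hle a b hab hd)).1 ?_
    rw [Finset.sum_add_distrib, hsum a ha, hsum b hb, Finset.sum_const, hE]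
    rfl
  obtain ⟨x, hx⟩ : E.Nonempty := Finset.card_pos.1 (by omega)
  have pick : ∀ a b : M0, a ∈ U0 → b ∈ U0 → a * b = b * a → a * b ∈ D0 →
      ∃ p, (p = a ∨ p = b) ∧ x * h.f p = h.f p * x := by
    intro a b ha hb hab hd
    have := hex a b ha hb hab hd x hx
    by_cases h1 : x * h.f a = h.f a * x
    · exact ⟨a, Or.inl rfl, h1⟩
    · refine ⟨b, Or.inr rfl, ?_⟩
      by_contra h2
      simp only [c, if_neg h1, if_neg h2] at this
      omega
  obtain ⟨a, ha, hxa⟩ := pick _ _ h01 h23 hc01 hm1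
  obtain ⟨b, hb, hxb⟩ := pick _ _ hu02 hu13 hc02 hm2
  obtain ⟨hab, haU, hbU⟩ := hpr a (by simpa using ha) b (by simpa using hb)
  obtain ⟨g, hga, hgb⟩ := adjacent_conj a haU b hbU hab
  replace hx := (hEm x).1 hx
  refine ⟨(h.f g)⁻¹ * x * h.f g, hx.1.trans (isConj_iff.2 ⟨(h.f g)⁻¹, by rw [inv_inv]⟩), ?_, ?_, ?_⟩
  · rintro ⟨y, hy⟩
    refine hx.2 ⟨g * y * g⁻¹, ?_⟩
    rw [map_mul, map_mul, hy, map_inv]
    group
  · calc (h.f g)⁻¹ * x * h.f g * h.f (sw 0 1) =
          (h.f g)⁻¹ * (x * (h.f g * h.f (sw 0 1) * (h.f g)⁻¹)) * h.f g := by group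
      _ = _ := by rw [← map_inv h.f g, ← map_mul, ← map_mul, hga, hxa, ← hga, map_mul, map_mul, map_inv]; group
  · calc (h.f g)⁻¹ * x * h.f g * h.f (sw 1 2) =
          (h.f g)⁻¹ * (x * (h.f g * h.f (sw 1 2) * (h.f g)⁻¹)) * h.f g := by group
      _ = _ := by rw [← map_inv h.f g, ← map_mul, ← map_mul, hgb, hxb, ← hgb, map_mul, map_mul, map_inv]; group

include hf in
theorem iso : Nonempty (G ≃* Equiv.Perm (Fin 6)) := by
  classical
  obtain ⟨x, hxc, hxr, hx01, hx12⟩ := h.exists_four hf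
  obtain ⟨h01, h12, h23, hc01, hb01, hb12, -⟩ := chain_facts
  have htx : h.t * x ≠ x * h.t := fun e => hxr ((h.cent x).1 e.symm)
  have hx23 : h.f (sw 2 3) * x ≠ x * h.f (sw 2 3) := by
    intro e
    have hxab : x * h.f (sw 0 1 * sw 2 3) = h.f (sw 0 1 * sw 2 3) * x := by
      rw [map_mul, ← mul_assoc, hx01, mul_assoc, ← e, ← mul_assoc]
    obtain ⟨k, hk⟩ := conj_D0 _ member_facts.1
    rw [← hk, map_mul, map_mul, map_inv] at hxab
    obtain ⟨y, hy⟩ := h.mem_range_of_commute_c (g := (h.f k)⁻¹ * x * h.f k) (by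
      calc (h.f k)⁻¹ * x * h.f k * h.f dd = (h.f k)⁻¹ * (x * (h.f k * h.f dd * (h.f k)⁻¹)) * h.f k := by group
        _ = _ := by rw [hxab]; group)
    refine hxr ⟨k * y * k⁻¹, ?_⟩
    rw [map_mul, map_mul, hy, map_inv]
    group
  have hsq : ∀ z, IsConj h.t z → z * z = 1 := by
    intro z hz
    obtain ⟨g, rfl⟩ := isConj_iff.1 hz
    rw [show g * h.t * g⁻¹ * (g * h.t * g⁻¹) = g * (h.t * h.t) * g⁻¹ by group, h.t_mul]
    group
  have hc01t := h.commute_t (sw 0 1)
  let s : ℕ → G := fun i => match i with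
    | 0 => h.f (sw 0 1)
    | 1 => h.f (sw 1 2)
    | 2 => h.f (sw 2 3)
    | 3 => x
    | _ => h.t
  have hchain : SymRecog.Chain s 5 := by
    refine ⟨fun i hi => ?_, fun i hi => ?_, fun i j hij hj => ?_⟩
    · interval_cases i
      · exact hsq _ (h.conj_U0' hf h01)
      · exact hsq _ (h.conj_U0' hf h12)
      · exact hsq _ (h.conj_U0' hf h23)
      · exact hsq _ hxc
      · exact h.t_mul
    · have hi' : i < 4 := by omega
      interval_cases i
      · show h.f _ * h.f _ * h.f _ = h.f _ * h.f _ * h.f _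
        simp only [← map_mul]
        rw [hb01]
      · show h.f _ * h.f _ * h.f _ = h.f _ * h.f _ * h.f _
        simp only [← map_mul]
        rw [hb12]
      · exact h.braid hf (h.conj_U0' hf h23) hxc (h.conj_U0' hf h01)
          (by show h.f _ * h.f _ = h.f _ * h.f _; rw [← map_mul, ← map_mul, hc01]) hx01 hx23
      · exact h.braid hf hxc (IsConj.refl _) (h.conj_U0' hf h01) hx01 hc01t.symm htx.symm
    · have hi' : i < 3 := by omega
      interval_cases i <;> interval_cases j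
      · show h.f _ * h.f _ = h.f _ * h.f _
        rw [← map_mul, ← map_mul, hc01]
      · exact hx01.symm
      · exact hc01t
      · exact hx12.symm
      · exact h.commute_t _
      · exact h.commute_t _
  obtain ⟨F, hF, -⟩ := SymRecog.exists_hom s 5 hchain
  have hinj : Function.Injective F := by
    rw [← MonoidHom.ker_eq_bot_iff]
    haveI : IsSimpleGroup (alternatingGroup (Fin 6)) := alternatingGroup.isSimpleGroup (by simp)
    rcases Subgroup.Normal.eq_bot_or_eq_top (H := F.ker.subgroupOf (alternatingGroup (Fin 6))) inferInstance with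
      hb | hb
    · refine (Subgroup.eq_bot_iff_forall _).2 fun n hn => ?_
      by_contra hn1
      obtain ⟨i, hi⟩ : ∃ i, n i ≠ i := by
        by_contra! h2
        exact hn1 (Equiv.ext h2)
      have hk : ∀ a b : Fin 6, ∃ k : Fin 6, k ≠ a ∧ k ≠ b := by decide
      obtain ⟨k, hki, hkj⟩ := hk i (n i)
      have hc : Equiv.swap (n i) k * n = n * Equiv.swap (n i) k := by
        set g := Equiv.swap (n i) k
        have h1 : g * n * g⁻¹ * n⁻¹ ∈ F.ker :=
          mul_mem (Subgroup.Normal.conj_mem inferInstance n hn g) (inv_mem hn)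
        have h2 : g * n * g⁻¹ * n⁻¹ ∈ alternatingGroup (Fin 6) := by
          rw [Equiv.Perm.mem_alternatingGroup]
          simp only [map_mul, map_inv]
          rw [mul_comm (Equiv.Perm.sign g), mul_inv_cancel_right, mul_inv_cancel]
        have h3 : (⟨_, h2⟩ : alternatingGroup (Fin 6)) ∈ F.ker.subgroupOf _ := h1
        rw [hb, Subgroup.mem_bot] at h3
        exact mul_inv_eq_iff_eq_mul.1 (mul_inv_eq_one.1 (congrArg Subtype.val h3))
      have h2 := congrArg (fun e : Equiv.Perm (Fin 6) => e i) hc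
      simp [Equiv.Perm.mul_apply, Equiv.swap_apply_of_ne_of_ne hi.symm hki.symm] at h2
      exact hkj h2
    · exfalso
      have hle := Subgroup.subgroupOf_eq_top.1 hb
      have hm : SymRecog.adj 5 0 * SymRecog.adj 5 1 * (SymRecog.adj 5 0)⁻¹ * (SymRecog.adj 5 1)⁻¹ ∈
          alternatingGroup (Fin 6) := by
        rw [Equiv.Perm.mem_alternatingGroup]
        simp only [map_mul, map_inv]
        rw [mul_comm (Equiv.Perm.sign (SymRecog.adj 5 0)), mul_inv_cancel_right, mul_inv_cancel]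
      have h1 := MonoidHom.mem_ker.1 (hle hm)
      simp only [map_mul, map_inv, hF 0 (by norm_num), hF 1 (by norm_num)] at h1
      exact sw_noncomm (h.inj (by
        rw [map_mul, map_mul]
        exact mul_inv_eq_iff_eq_mul.1 (mul_inv_eq_one.1 h1)))
  have hcard : Nat.card (Equiv.Perm (Fin 6)) = Nat.card G := by
    rw [(h.ncard_outer hf).2, Nat.card_perm, Nat.card_fin]
    rfl
  exact ⟨(MulEquiv.ofBijective F (Nat.bijective_iff_injective_and_card F |>.2 ⟨hinj, hcard⟩)).symm⟩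

end Hyp

end Cfsg.Agent.SymSix
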